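import Groth.Agent.Lib.CurvField.Fam
import Groth.Agent.H56.DimBaseChange
import Groth.Agent.S2757

/-!
# Conditions on all geometric fibres of a scheme over a field
-/

universe u

open CategoryTheory CategoryTheory.Limits AlgebraicGeometry

namespace Groth.Agent.Lib.CurvField

variable {k : Type u} [Field k] {X : Scheme.{u}} (p : X ⟶ Spec (CommRingCat.of k))

theorem isReduced_of_flat_surjective {Y Z : Scheme.{u}} (g : Y ⟶ Z) [Flat g] [Surjective g] [IsReduced Y] :
    IsReduced Z := by
  have : ∀ z, _root_.IsReduced (Z.presheaf.stalk z) := by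
    intro z
    obtain ⟨y, rfl⟩ := g.surjective z
    have hfl := Flat.stalkMap g y
    algebraize [(g.stalkMap y).hom]
    haveI : IsLocalHom (algebraMap (Z.presheaf.stalk (g y)) (Y.presheaf.stalk y)) := g.toLRSHom.prop y
    haveI : Module.FaithfullyFlat (Z.presheaf.stalk (g y)) (Y.presheaf.stalk y) :=
      Module.FaithfullyFlat.of_flat_of_isLocalHom
    exact isReduced_of_injective (algebraMap (Z.presheaf.stalk (g y)) (Y.presheaf.stalk y))
      (FaithfulSMul.algebraMap_injective _ _)
  exact isReduced_of_isReduced_stalk Z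

/-- A field point of `Spec k` lifts to an algebraically closed field point. -/
theorem exists_lift (K : Type u) [Field K] :
    ∃ (Ω : Type u) (_ : Field Ω) (_ : IsAlgClosed Ω) (c : Spec (CommRingCat.of Ω) ⟶ Spec (CommRingCat.of K)),
      Flat c ∧ Surjective c := by
  refine ⟨AlgebraicClosure K, inferInstance, inferInstance,
    Spec.map (CommRingCat.ofHom (algebraMap K (AlgebraicClosure K))), ?_,
    ⟨fun _ => ⟨IsLocalRing.closedPoint _, Subsingleton.elim _ _⟩⟩⟩
  rw [HasRingHomProperty.Spec_iff (P := @Flat)]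
  exact RingHom.flat_algebraMap_iff.2 inferInstance

theorem geometricallyReduced_iff :
    GeometricallyReduced p ↔ ∀ (Ω : Type u) [Field Ω] [IsAlgClosed Ω]
      (b : Spec (CommRingCat.of Ω) ⟶ Spec (CommRingCat.of k)) (X' : Scheme.{u})
      (q : X' ⟶ Spec (CommRingCat.of Ω)) (i : X' ⟶ X), IsPullback i q p b → IsReduced X' := by
  refine ⟨fun h Ω _ _ b X' q i sq => h.geometrically_isReduced b i q sq, fun h => ⟨?_⟩⟩
  intro K _ y Y fst snd sq
  obtain ⟨Ω, _, _, c, hc, hcs⟩ := exists_lift K
  have s₁ := IsPullback.of_hasPullback snd c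
  haveI := h Ω (c ≫ y) _ _ _ (s₁.paste_horiz sq)
  haveI : Flat (pullback.fst snd c) := MorphismProperty.of_isPullback s₁.flip hc
  haveI : Surjective (pullback.fst snd c) := MorphismProperty.of_isPullback s₁.flip hcs
  exact isReduced_of_flat_surjective (pullback.fst snd c)

theorem geometricallyConnected_iff :
    GeometricallyConnected p ↔ ∀ (Ω : Type u) [Field Ω] [IsAlgClosed Ω]
      (b : Spec (CommRingCat.of Ω) ⟶ Spec (CommRingCat.of k)) (X' : Scheme.{u})
      (q : X' ⟶ Spec (CommRingCat.of Ω)) (i : X' ⟶ X), IsPullback i q p b → ConnectedSpace X' := by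
  refine ⟨fun h Ω _ _ b X' q i sq => h.geometrically_connectedSpace b i q sq, fun h => ⟨?_⟩⟩
  intro K _ y Y fst snd sq
  obtain ⟨Ω, _, _, c, hc, hcs⟩ := exists_lift K
  have s₁ := IsPullback.of_hasPullback snd c
  haveI := h Ω (c ≫ y) _ _ _ (s₁.paste_horiz sq)
  haveI : Surjective (pullback.fst snd c) := MorphismProperty.of_isPullback s₁.flip hcs
  exact (pullback.fst snd c).surjective.connectedSpace (pullback.fst snd c).continuous

theorem krullDim_eq_one_iff [LocallyOfFiniteType p] :
    topologicalKrullDim ↥X = 1 ↔ ∀ (Ω : Type u) [Field Ω] [IsAlgClosed Ω]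
      (b : Spec (CommRingCat.of Ω) ⟶ Spec (CommRingCat.of k)) (X' : Scheme.{u})
      (q : X' ⟶ Spec (CommRingCat.of Ω)) (i : X' ⟶ X), IsPullback i q p b → topologicalKrullDim ↥X' = 1 := by
  refine ⟨fun h Ω _ _ b X' q i sq => (H56.DimBaseChange.topologicalKrullDim_baseChange b p q i sq).trans h,
    fun h => ?_⟩
  obtain ⟨Ω, _, _, c, -, -⟩ := exists_lift k
  have sq := IsPullback.of_hasPullback p c
  exact (H56.DimBaseChange.topologicalKrullDim_baseChange c p _ _ sq).symm.trans (h Ω c _ _ _ sq)

/-- The points at which `p` is not smooth. -/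
abbrev singSet {Y S : Scheme.{u}} (q : Y ⟶ S) : Set Y :=
  {y | ¬ ∃ U : Y.Opens, y ∈ U ∧ Smooth (U.ι ≫ q)}

theorem singSet_preimage [LocallyOfFiniteType p] {Ω : Type u} [Field Ω]
    {b : Spec (CommRingCat.of Ω) ⟶ Spec (CommRingCat.of k)} {X' : Scheme.{u}}
    {q : X' ⟶ Spec (CommRingCat.of Ω)} {i : X' ⟶ X} (sq : IsPullback i q p b) :
    singSet q = i ⁻¹' singSet p := by
  ext x'
  refine not_congr ⟨?_, ?_⟩
  · rintro ⟨U', hx', hs⟩
    haveI : Flat b := by
      obtain ⟨φ, rfl⟩ := Spec.map_surjective b
      rw [HasRingHomProperty.Spec_iff (P := @Flat)]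
      algebraize [φ.hom]
      exact RingHom.flat_algebraMap_iff.2 inferInstance
    let e := sq.isoPullback
    obtain ⟨U, hxU, hU⟩ := Groth.Agent.S2757.result p b (e.hom x') (Flat.stalkMap b _)
      ⟨e.inv ⁻¹ᵁ U', by
        change e.inv (e.hom x') ∈ U'
        rwa [← Scheme.Hom.comp_apply, Iso.hom_inv_id],
      by
        haveI := hs
        haveI : Smooth ((e.inv ∣_ U') ≫ U'.ι ≫ q) := inferInstance
        have h' : (e.inv ∣_ U') ≫ U'.ι ≫ q = (e.inv ⁻¹ᵁ U').ι ≫ pullback.snd p b := by
          rw [← Category.assoc, morphismRestrict_ι, Category.assoc, sq.isoPullback_inv_snd]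
        exact h' ▸ this⟩
    refine ⟨U, ?_, hU⟩
    rwa [← sq.isoPullback_hom_fst, Scheme.Hom.comp_apply]
  · rintro ⟨U, hxU, hs⟩
    refine ⟨i ⁻¹ᵁ U, hxU, ?_⟩
    have s₁ : IsPullback (i ∣_ U) (i ⁻¹ᵁ U).ι U.ι i := isPullback_morphismRestrict i U
    exact MorphismProperty.of_isPullback (P := @Smooth) (s₁.paste_vert sq) hs

theorem singSet_finite_iff [LocallyOfFiniteType p] :
    (singSet p).Finite ↔ ∀ (Ω : Type u) [Field Ω] [IsAlgClosed Ω]
      (b : Spec (CommRingCat.of Ω) ⟶ Spec (CommRingCat.of k)) (X' : Scheme.{u})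
      (q : X' ⟶ Spec (CommRingCat.of Ω)) (i : X' ⟶ X), IsPullback i q p b → (singSet q).Finite := by
  constructor
  · intro h Ω _ _ b X' q i sq
    rw [singSet_preimage p sq]
    refine h.preimage' fun x hx => ?_
    -- `x` is a closed point: the finite closed set `singSet p` sits in a Jacobson space
    have hclosed : IsClosed (singSet p) := by
      rw [← isOpen_compl_iff]
      refine isOpen_iff_forall_mem_open.2 fun y hy => ?_
      obtain ⟨U, hyU, hU⟩ := not_not.1 hy
      exact ⟨U, fun z hz => not_not.2 ⟨U, hz, hU⟩, U.isOpen, hyU⟩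
    haveI : JacobsonSpace X := LocallyOfFiniteType.jacobsonSpace p
    have hx' : IsClosed ({x} : Set X) := by
      have hsub : singSet p ∩ closedPoints X = singSet p := by
        have hfin : (singSet p ∩ closedPoints X).Finite := h.inter_of_left _
        have hc : IsClosed (singSet p ∩ closedPoints X) := by
          rw [← Set.biUnion_of_singleton (singSet p ∩ closedPoints X)]
          exact hfin.isClosed_biUnion fun z hz => mem_closedPoints_iff.1 hz.2
        exact hc.closure_eq.symm.trans
          (closure_inter_closedPoints hclosed)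
      exact mem_closedPoints_iff.1 (hsub.symm ▸ hx : x ∈ singSet p ∩ closedPoints X).2
    haveI := isClosed_singleton_iff_isClosedImmersion.1 hx'
    haveI : IsFinite (X.fromSpecResidueField x ≫ p) :=
      (isFinite_iff_locallyOfFiniteType_of_jacobsonSpace (f := X.fromSpecResidueField x ≫ p)).2 inferInstance
    have s₁ := IsPullback.of_hasPullback (X.fromSpecResidueField x) i
    haveI : IsFinite (pullback.snd (X.fromSpecResidueField x) i ≫ q) :=
      MorphismProperty.of_isPullback (s₁.paste_vert sq) inferInstance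
    haveI : Finite ↥(pullback (X.fromSpecResidueField x) i) :=
      Set.finite_univ_iff.1 (((pullback.snd (X.fromSpecResidueField x) i ≫ q).finite_preimage_singleton
        (IsLocalRing.closedPoint Ω)).subset fun z _ => Subsingleton.elim _ _)
    refine (Set.finite_range (pullback.snd (X.fromSpecResidueField x) i)).subset ?_
    rw [Scheme.Pullback.range_snd, Scheme.range_fromSpecResidueField]
  · intro h
    obtain ⟨Ω, _, _, c, -, hcs⟩ := exists_lift k
    have sq := IsPullback.of_hasPullback p c
    haveI : Surjective (pullback.fst p c) := MorphismProperty.of_isPullback sq.flip hcs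
    have := h Ω c _ _ _ sq
    rw [singSet_preimage p sq] at this
    exact this.of_preimage (pullback.fst p c).surjective

end Groth.Agent.Lib.CurvField
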