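import Groth.Prelude
import Mathlib

/-!
# Geometric fibres of a family of schemes, and conditions on geometric fibres of schemes over a field
-/

universe u

open CategoryTheory CategoryTheory.Limits AlgebraicGeometry

namespace Groth.Agent.Lib.CurvField

open CurvSt

variable (S : Scheme.{u}) (k : Type u) [Field k] (t : Spec (CommRingCat.of k) ⟶ S) (X : Scheme.{u})
  (p : X ⟶ Spec (CommRingCat.of k))

/-- The family of schemes over a field, as a family of sheaves. -/
noncomputable abbrev fam : SpFamObj S 0 :=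
  (CurvSt.toSpFam S 0).obj ⟨Over.mk t, X, p, Fin.elim0, fun i => i.elim0⟩

theorem geomFib_iff
    (P : ∀ (Ω : Type u) [Field Ω] [IsAlgClosed Ω] (X' : Scheme.{u}), (X' ⟶ Spec (CommRingCat.of Ω)) → Prop) :
    CurvSt.GeomFib (fun Ω _ _ X' q _ => P Ω X' q) (fam S k t X p) ↔
      ∀ (Ω : Type u) [Field Ω] [IsAlgClosed Ω] (b : Spec (CommRingCat.of Ω) ⟶ Spec (CommRingCat.of k))
        (X' : Scheme.{u}) (q : X' ⟶ Spec (CommRingCat.of Ω)) (i : X' ⟶ X),
        IsPullback i q p b → P Ω X' q := by
  constructor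
  · intro h Ω _ _ b X' q i sq
    let B : PtFamObj S 0 := ⟨Over.mk (b ≫ t), X', q, Fin.elim0, fun i => i.elim0⟩
    let A : PtFamObj S 0 := ⟨Over.mk t, X, p, Fin.elim0, fun i => i.elim0⟩
    let φ : PtFamObj.Hom B A := ⟨Over.homMk b rfl, i, sq, fun i => i.elim0⟩
    let j : (fam S k t X p).ptOver (q ≫ b) ⟶ A.totOver :=
      Over.homMk i (by
        change i ≫ p ≫ t = (q ≫ b) ≫ t
        rw [← Category.assoc, sq.w])
    refine h Ω b X' q ((AlgSp.yon S).map j) ?_
    have hc : IsPullback j ((fam S k t X p).fibHom b q) A.fOver ((fam S k t X p).ptHom b) :=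
      IsPullback.of_map (Over.forget S) (by ext; exact sq.w) sq
    exact hc.map (AlgSp.yon S)
  · intro h Ω _ _ b X' q i hP
    obtain ⟨j, rfl⟩ := (AlgSp.yon S).map_surjective i
    have hw : j ≫ PtFamObj.fOver ⟨Over.mk t, X, p, Fin.elim0, fun i => i.elim0⟩ =
        (fam S k t X p).fibHom b q ≫ (fam S k t X p).ptHom b :=
      (AlgSp.yon S).map_injective
        (((AlgSp.yon S).map_comp _ _).trans (hP.w.trans ((AlgSp.yon S).map_comp _ _).symm))
    exact h Ω b X' q j.left ((IsPullback.of_map (AlgSp.yon S) hw hP).map (Over.forget S))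

end Groth.Agent.Lib.CurvField
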