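import Groth.Agent.Lib.GorenMor.Comp
import Groth.Agent.H54.CMField

/-!
# Gorenstein morphisms to the spectrum of a field
-/

universe u

open CategoryTheory CategoryTheory.Limits AlgebraicGeometry IsLocalRing

namespace Groth.Agent.Lib.CurvField

theorem isGorensteinAt_iff_stalk {k : Type u} [Field k] {X : Scheme.{u}} (f : X ⟶ Spec (CommRingCat.of k)) (x : X) :
    Dual3.IsGorensteinAt f x ↔ LocCoh.IsGorensteinLocalRing (X.presheaf.stalk x) := by
  rw [GorenMor.Comp.isGorensteinAt_iff, and_iff_right (H54.CMField.flat_stalkMap_spec f x)]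
  have h : (maximalIdeal ((Spec (CommRingCat.of k)).presheaf.stalk (f x))).map (f.stalkMap x).hom = ⊥ := by
    rw [H54.CMField.maximalIdeal_stalk_spec, Ideal.map_bot]
  exact Goren.Flat.isGorensteinLocalRing_ringEquiv_iff ((Ideal.quotEquivOfEq h).trans (RingEquiv.quotientBot _))

end Groth.Agent.Lib.CurvField
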